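import Groth.Agent.Lib.RamSam27.Regular
import Groth.Agent.Lib.RamSam27.Normal
import Groth.Agent.Lib.CIPic27.Final
import Groth.Agent.Lib.FlatDepth.HomBC
import Groth.Agent.Lib.FlatDepth.GeomFib
import Groth.Agent.Lib.GRing6.Permanence
import Groth.Agent.Lib.SerreCrit.Basic
import Groth.Agent.Lib.FlatDepth.FibreStalk
import Groth.Prelude.Def_ParaF

/-!
# Parafactorial points of a normal algebra times a discrete valuation ring
-/

set_option autoImplicit false
set_option linter.style.haveILetI false
set_option maxHeartbeats 200000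
set_option synthInstance.maxHeartbeats 40000

universe u

open IsLocalRing
open scoped TensorProduct

namespace Groth.Agent.PicProper20

variable (K : Type u) [Field K] [IsAlgClosed K] (A : Type u) [CommRing A] [Algebra K A]
  (R : Type u) [CommRing R] [IsDomain R] [IsDiscreteValuationRing R] [Algebra K R]

/-- A discrete valuation ring is regular over an algebraically closed field. -/
theorem isRegularHom_dvr : CAlg.IsRegularHom K R := by
  refine ⟨inferInstance, fun p _ => ⟨FlatDepth.isNoetherianRing_fiber p, fun k' _ _ hk' => ?_⟩⟩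
  haveI := hk'
  have hp : p = ⊥ := (Ideal.eq_bot_or_top p).resolve_right ‹p.IsPrime›.ne_top
  subst hp
  letI : Algebra K k' := ((algebraMap (⊥ : Ideal K).ResidueField k').comp (algebraMap K _)).toAlgebra
  haveI : IsScalarTower K (⊥ : Ideal K).ResidueField k' := .of_algebraMap_eq fun _ => rfl
  haveI : Module.Finite K (⊥ : Ideal K).ResidueField :=
    Module.Finite.of_surjective (Algebra.linearMap K _) (Ideal.algebraMap_residueField_surjective ⊥)
  haveI : Module.Finite K k' := Module.Finite.trans (⊥ : Ideal K).ResidueField k'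
  have hb : Function.Bijective (algebraMap K k') :=
    IsAlgClosed.algebraMap_bijective_of_isIntegral
  haveI : IsRegularRing R := inferInstance
  refine @IsRegularRing.of_ringEquiv R _ _ _ ?_ ‹_›
  exact (Algebra.TensorProduct.cancelBaseChange K (⊥ : Ideal K).ResidueField (⊥ : Ideal K).ResidueField k' R).symm.toRingEquiv |>.symm
    |>.trans ((Algebra.TensorProduct.congr (AlgEquiv.ofBijective (Algebra.ofId K k') hb).symm (AlgEquiv.refl : R ≃ₐ[K] R)).toRingEquiv.trans
      (Algebra.TensorProduct.lid K R).toRingEquiv) |>.symm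

variable [Algebra.FiniteType K A]

/-- Points of `A ⊗ R` over the closed point of `R` and a normal non-curve point of `A` are parafactorial. -/
theorem parafactorial_atPrime (q : Ideal (A ⊗[K] R)) [q.IsPrime] (π : R) (hπ : π ≠ 0)
    (hπq : (1 : A) ⊗ₜ[K] π ∈ q) (p : Ideal A) [p.IsPrime] (hp : p = q.comap (algebraMap A (A ⊗[K] R)))
    [IsDomain (Localization.AtPrime p)] [IsIntegrallyClosed (Localization.AtPrime p)]
    (hdim : (2 : WithBot ℕ∞) ≤ ringKrullDim (Localization.AtPrime p)) :
    ParaF.IsParafactorialLocalRing (Localization.AtPrime q) := by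
  haveI : IsNoetherianRing A := Algebra.FiniteType.isNoetherianRing K A
  haveI : IsNoetherianRing (A ⊗[K] R) := FlatDepth.isNoetherianRing_baseChange K R A (Or.inr inferInstance)
  let B := A ⊗[K] R
  let T := Localization.AtPrime q
  let Aₚ := Localization.AtPrime p
  haveI : IsNoetherianRing T := IsLocalization.isNoetherianRing q.primeCompl _ inferInstance
  haveI : IsNoetherianRing Aₚ := IsLocalization.isNoetherianRing p.primeCompl _ inferInstance
  haveI : q.LiesOver p := ⟨hp⟩
  letI := Localization.AtPrime.algebraOfLiesOver p q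
  haveI : IsScalarTower A Aₚ T := inferInstance
  haveI : IsLocalHom (algebraMap Aₚ T) := by
    refine ((local_hom_TFAE (algebraMap Aₚ T)).out 0 2).2 ?_
    rw [← Localization.AtPrime.map_eq_maximalIdeal, Ideal.map_map, ← IsScalarTower.algebraMap_eq,
      IsScalarTower.algebraMap_eq A B T, ← Ideal.map_map, ← Localization.AtPrime.map_eq_maximalIdeal]
    exact Ideal.map_mono (Ideal.map_le_iff_le_comap.2 hp.le)
  have h1 : CAlg.IsRegularHom A B := FlatDepth.isRegularHom_baseChange K R A (isRegularHom_dvr K R)
  have h2 : CAlg.IsRegularHom B T := GRing6.isRegularHom_isLocalization B T q.primeCompl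
  have hreg : CAlg.IsRegularHom Aₚ T :=
    GRing6.isRegularHom_of_localized_base A Aₚ T p.primeCompl (FlatDepth.isRegularHom_comp A B T h1 h2)
  haveI := hreg.1
  have hnf : ¬ IsField (EGA4.FibRing Aₚ T) := by
    intro hF
    have hmax : EGA4.mB Aₚ T = maximalIdeal T := by
      haveI : (EGA4.mB Aₚ T).IsMaximal := Ideal.Quotient.maximal_of_isField _ hF
      exact IsLocalRing.eq_maximalIdeal ‹_›
    have hm : algebraMap B T ((1 : A) ⊗ₜ[K] π) ∈ (p.map (algebraMap A B)).map (algebraMap B T) := by
      have h3 : (p.map (algebraMap A B)).map (algebraMap B T) = maximalIdeal T := by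
        rw [← hmax, Ideal.map_map, ← IsScalarTower.algebraMap_eq, EGA4.mB,
          ← Localization.AtPrime.map_eq_maximalIdeal, Ideal.map_map, ← IsScalarTower.algebraMap_eq]
      rw [h3, IsLocalization.AtPrime.to_map_mem_maximal_iff T q]
      exact hπq
    obtain ⟨s, hs, hsm⟩ := (IsLocalization.algebraMap_mem_map_algebraMap_iff q.primeCompl T _ _).1 hm
    refine hs ((Ideal.map_le_iff_le_comap.2 hp.le : p.map (algebraMap A B) ≤ q) ?_)
    let φ : B →+* (A ⧸ p) ⊗[K] R :=
      (Algebra.TensorProduct.map (R := K) (S := K) (Ideal.Quotient.mkₐ K p) (AlgHom.id K R)).toRingHom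
    have hker : RingHom.ker φ = p.map (algebraMap A B) := by
      have := Algebra.TensorProduct.rTensor_ker (R := K) (S := K) (C := R) (Ideal.Quotient.mkₐ K p) Ideal.Quotient.mk_surjective
      rw [show RingHom.ker (Ideal.Quotient.mkₐ K p) = p from Ideal.Quotient.mkₐ_ker K p] at this
      exact this
    have hinj : Function.Injective (LinearMap.lTensor (A ⧸ p) (LinearMap.mulLeft K π)) :=
      Module.Flat.lTensor_preserves_injective_linearMap _ (mul_right_injective₀ hπ)
    have hmul : ∀ x : (A ⧸ p) ⊗[K] R, LinearMap.lTensor (A ⧸ p) (LinearMap.mulLeft K π) x = φ ((1 : A) ⊗ₜ π) * x := fun x => by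
      induction x using TensorProduct.induction_on with
      | zero => simp
      | tmul a r =>
        change a ⊗ₜ[K] (π * r) = (Ideal.Quotient.mkₐ K p 1 ⊗ₜ[K] π) * (a ⊗ₜ[K] r)
        rw [map_one, Algebra.TensorProduct.tmul_mul_tmul, one_mul]
      | add x y hx hy => rw [map_add, hx, hy, mul_add]
    rw [← hker, RingHom.mem_ker]
    refine hinj ?_
    rw [hmul, map_zero, ← map_mul, mul_comm]
    rw [← hker, RingHom.mem_ker] at hsm
    exact hsm
  haveI := RamSam27.isRegularLocalRing_fibRing ((FSFlat3.isAdicFormallySmooth_iff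
    (k := (maximalIdeal Aₚ).ResidueField) (maximalIdeal Aₚ).algebraMap_residueField_surjective).2
      ⟨hreg.1, (hreg.2 (maximalIdeal Aₚ)).2⟩)
  have h3 : (3 : ℕ∞) ≤ LocCoh.depth T T := by
    rw [(FlatDepth.ring_fibre_invariants (A := Aₚ) (B := T)).1]
    exact (show (3 : ℕ∞) = 2 + 1 from rfl).le.trans
      (add_le_add (SerreCrit.two_le_depth_of_normal Aₚ hdim) (RamSam27.one_le_depth_of_regular hnf))
  exact CIPic27.isParafactorial_of_depth (le_trans (by norm_num) h3)
    (CIPic27.picTrivial_of_ptm (RamSam27.ptm_of_regularHom hreg hnf h3))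

end Groth.Agent.PicProper20
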