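import Groth.Agent.Lib.PicProper20.Alg
import Groth.Agent.Lib.GrpdDim19.Smooth
import Groth.Agent.Lib.WeilExt.Apply
import Groth.Agent.Lib.RegLoc.UFD
import Groth.Agent.Lib.Sumihiro14.Open
import Groth.Agent.Lib.ParaFDesc27.Stalkwise
import Groth.Agent.Lib.Curve17.ExtendInvMain
import Groth.Prelude.Def_Pi1

/-!
# Line bundles extend from the generic fibre of a normal variety times a discrete valuation ring
-/

set_option autoImplicit false
set_option linter.style.haveILetI false
set_option backward.isDefEq.respectTransparency false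
set_option backward.isDefEq.respectTransparency.types false

universe u

open CategoryTheory CategoryTheory.Limits AlgebraicGeometry IsLocalRing TopologicalSpace
open scoped TensorProduct

noncomputable section

namespace Groth.Agent.PicProper20

variable {K : Type u} [Field K] [IsAlgClosed K] {X : Scheme.{u}} (g : X ⟶ Spec (CommRingCat.of K))
  [LocallyOfFiniteType g] (hX : Pi1.IsNormalScheme X) (R : Type u) [CommRing R] [IsDomain R]
  [IsDiscreteValuationRing R] (b : Spec (CommRingCat.of R) ⟶ Spec (CommRingCat.of K))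

include hX in
theorem parafactorial_stalk (y : ↥(pullback g b))
    (hy : pullback.snd g b y = (closedPoint R : PrimeSpectrum R))
    (hns : y ∉ (pullback.snd g b).smoothLocus) :
    ParaF.IsParafactorialLocalRing ((pullback g b).presheaf.stalk y) := by
  let x := pullback.fst g b y
  have hxns : x ∉ g.smoothLocus := fun h =>
    hns (GrpdSmooth19.mem_smoothLocus_baseChange (IsPullback.of_hasPullback g b) y h)
  obtain ⟨W, hW, hxW, -⟩ := exists_isAffineOpen_mem_and_subset (X := X) (x := x) (U := ⊤) trivial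
  let A := Γ(X, W)
  letI : Algebra K A := (Spec.preimage (hW.fromSpec ≫ g)).hom.toAlgebra
  have hA : Spec.map (CommRingCat.ofHom (algebraMap K A)) = hW.fromSpec ≫ g := Spec.map_preimage _
  letI : Algebra K R := (Spec.preimage b).hom.toAlgebra
  have hR : Spec.map (CommRingCat.ofHom (algebraMap K R)) = b := Spec.map_preimage _
  haveI : Algebra.FiniteType K A := by
    have : LocallyOfFiniteType (Spec.map (CommRingCat.ofHom (algebraMap K A))) := by rw [hA]; infer_instance
    exact RingHom.finiteType_algebraMap.1 ((HasRingHomProperty.Spec_iff (P := @LocallyOfFiniteType)).1 this)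
  let c : Spec (CommRingCat.of (A ⊗[K] R)) ⟶ pullback g b :=
    (pullbackSpecIso K A R).inv ≫ pullback.map (Spec.map (CommRingCat.ofHom (algebraMap K A)))
      (Spec.map (CommRingCat.ofHom (algebraMap K R))) g b hW.fromSpec (𝟙 _) (𝟙 _)
      (by rw [Category.comp_id, hA]) (by rw [Category.comp_id, Category.id_comp, hR])
  haveI : IsOpenImmersion (pullback.map (Spec.map (CommRingCat.ofHom (algebraMap K A)))
      (Spec.map (CommRingCat.ofHom (algebraMap K R))) g b hW.fromSpec (𝟙 _) (𝟙 _)
      (by rw [Category.comp_id, hA]) (by rw [Category.comp_id, Category.id_comp, hR])) :=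
    MorphismProperty.pullbackMap (P := @IsOpenImmersion) (inferInstanceAs (IsOpenImmersion hW.fromSpec)) (inferInstanceAs (IsOpenImmersion (𝟙 _))) (by rw [hA]) (by rw [Category.id_comp, hR])
  haveI : IsOpenImmersion c := inferInstance
  obtain ⟨z, hz⟩ : y ∈ Set.range c := by
    rw [Scheme.Hom.comp_base, TopCat.coe_comp, Set.range_comp, (pullbackSpecIso K A R).inv.surjective.range_eq,
      Set.image_univ, Scheme.Pullback.range_map]
    exact ⟨hW.range_fromSpec.ge hxW, ⟨pullback.snd g b y, rfl⟩⟩
  obtain ⟨π, hπ⟩ := IsDiscreteValuationRing.exists_irreducible R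
  let q : Ideal (A ⊗[K] R) := PrimeSpectrum.asIdeal (R := A ⊗[K] R) z
  let p : Ideal A := q.comap (algebraMap A (A ⊗[K] R))
  have hsnd : c ≫ pullback.snd g b =
      Spec.map (CommRingCat.ofHom (Algebra.TensorProduct.includeRight (R := K) (A := A) (B := R)).toRingHom) := by
    simp only [c, Category.assoc, pullback.lift_snd, Category.comp_id]
    exact pullbackSpecIso_inv_snd K A R
  have hfst : c ≫ pullback.fst g b =
      Spec.map (CommRingCat.ofHom (Algebra.TensorProduct.includeLeftRingHom (R := K) (A := A) (B := R))) ≫ hW.fromSpec := by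
    simp only [c, Category.assoc, pullback.lift_fst]
    rw [← Category.assoc, pullbackSpecIso_inv_fst]
  have hπq : (1 : A) ⊗ₜ[K] π ∈ q := by
    have h1 := congrArg (fun φ : Spec (CommRingCat.of (A ⊗[K] R)) ⟶ _ => φ z) hsnd
    simp only [Scheme.Hom.comp_apply, hz, hy] at h1
    have h2 : π ∈ PrimeSpectrum.asIdeal (R := R) (closedPoint R) := (mem_maximalIdeal π).2 hπ.not_isUnit
    have h3 := congrArg (PrimeSpectrum.asIdeal (R := R)) h1
    rw [h3] at h2
    exact h2
  let P : PrimeSpectrum A := ⟨p, inferInstance⟩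
  have hP : hW.fromSpec P = x := by
    have h1 := congrArg (fun φ : Spec (CommRingCat.of (A ⊗[K] R)) ⟶ _ => φ z) hfst
    simp only [Scheme.Hom.comp_apply, hz] at h1
    exact h1.symm
  let eP : X.presheaf.stalk (hW.fromSpec P) ≃+* Localization.AtPrime p :=
    ((asIso (hW.fromSpec.stalkMap P)) ≪≫ Spec.stalkIso (CommRingCat.of A) P).commRingCatIsoToRingEquiv
  haveI := (hX (hW.fromSpec P)).1
  haveI := (hX (hW.fromSpec P)).2
  haveI : IsDomain (Localization.AtPrime p) := eP.symm.toMulEquiv.isDomain
  haveI : IsIntegrallyClosed (Localization.AtPrime p) := IsIntegrallyClosed.of_equiv eP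
  have hdim : (2 : WithBot ℕ∞) ≤ ringKrullDim (Localization.AtPrime p) := by
    rw [← ringKrullDim_eq_of_ringEquiv eP]
    haveI : LocallyOfFiniteType (Over.mk g).hom := ‹LocallyOfFiniteType g›
    exact Sumihiro14.two_le_dim_of_not_mem_smoothLocus (X := Over.mk g) hX (hW.fromSpec P) (by rw [hP]; exact hxns)
  have hloc := parafactorial_atPrime K A R q π hπ.ne_zero hπq p rfl hdim
  have h3 : ParaF.IsParafactorialLocalRing ((pullback g b).presheaf.stalk (c z)) :=
    ParaFDesc27.isParafactorial_of_iso (CommRingCat.of (Localization.AtPrime q))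
      (show CommRingCat.of (Localization.AtPrime q) ≅ CommRingCat.of ((pullback g b).presheaf.stalk (c z)) from
        (asIso (c.stalkMap z) ≪≫ Spec.stalkIso (CommRingCat.of (A ⊗[K] R)) z).symm) hloc
  rwa [hz] at h3

include hX in
/-- Invertible modules on the generic fibre extend. -/
theorem exists_extension {Z : Scheme.{u}} (j : Z ⟶ pullback g b) [IsOpenImmersion j]
    (hj : ∀ y, y ∉ Set.range j → pullback.snd g b y = (closedPoint R : PrimeSpectrum R))
    (L₀ : Z.Modules) (hL₀ : PicF.IsInvertible L₀) :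
    ∃ L : (pullback g b).Modules, PicF.IsInvertible L ∧ Nonempty (L.restrict j ≅ L₀) := by
  haveI : IsLocallyNoetherian (pullback g b) := LocallyOfFiniteType.isLocallyNoetherian (pullback.snd g b)
  let V : (pullback g b).Opens := j.opensRange ⊔ (pullback.snd g b).smoothLocus
  let j₁ : Z ⟶ V.toScheme := IsOpenImmersion.lift V.ι j (by
    rw [Scheme.Opens.range_ι]; exact fun y hy => Or.inl hy)
  have hj₁ : j₁ ≫ V.ι = j := IsOpenImmersion.lift_fac _ _ _
  haveI : IsOpenImmersion j₁ := by
    haveI : IsOpenImmersion (j₁ ≫ V.ι) := by rw [hj₁]; infer_instance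
    exact IsOpenImmersion.of_comp j₁ V.ι
  let L₁ : (j₁.opensRange : Scheme.{u}).Modules := L₀.restrict j₁.isoOpensRange.inv
  obtain ⟨LV, hLV, ⟨eV⟩⟩ := Curve17.exists_extension j₁.opensRange L₁ (M2.isInvertible_restrict hL₀ _) fun v hv => by
    have hv' : V.ι v ∈ (pullback.snd g b).smoothLocus := by
      rcases v.2 with ⟨z, hz⟩ | h
      · refine absurd ⟨z, V.ι.isOpenEmbedding.injective ?_⟩ hv
        rw [← Scheme.Hom.comp_apply, hj₁]
        exact hz
      · exact h
    let O := (pullback.snd g b).smoothLocus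
    haveI : Smooth (O.ι ≫ pullback.snd g b) := by
      rw [← Scheme.Hom.smoothLocus_eq_top_iff, ← Scheme.Hom.preimage_smoothLocus_eq, Scheme.Opens.ι_preimage_self]
    haveI := WeilExt.isRegularLocalRing_stalk_of_smooth (O.ι ≫ pullback.snd g b) ⟨V.ι v, hv'⟩
    let e : O.toScheme.presheaf.stalk ⟨V.ι v, hv'⟩ ≃+* V.toScheme.presheaf.stalk v :=
      ((asIso (O.ι.stalkMap ⟨V.ι v, hv'⟩)).symm ≪≫ asIso (V.ι.stalkMap v)).commRingCatIsoToRingEquiv
    haveI := RegLoc.ufd_of_isRegularLocalRing (O.toScheme.presheaf.stalk ⟨V.ι v, hv'⟩)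
    exact e.toMulEquiv.uniqueFactorizationMonoid ‹_›
  have hV : ParaF27.PF V := ParaFDesc27.pf_of_stalks fun y hy =>
    parafactorial_stalk g hX R b y (hj y fun h => hy (Or.inl h)) fun h => hy (Or.inr h)
  refine ⟨(Scheme.Modules.pushforward V.ι).obj LV, hV.push (𝟙 _) V.ι (by simp) LV hLV, ⟨?_⟩⟩
  exact (Scheme.Modules.restrictFunctorCongr hj₁.symm).app _ ≪≫
    (Scheme.Modules.restrictFunctorComp j₁ V.ι).app _ ≪≫
    (Scheme.Modules.restrictFunctor j₁).mapIso (ParaF27.counitIso V.ι LV) ≪≫
    (Scheme.Modules.restrictFunctorCongr j₁.isoOpensRange_hom_ι.symm).app LV ≪≫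
    (Scheme.Modules.restrictFunctorComp j₁.isoOpensRange.hom j₁.opensRange.ι).app LV ≪≫
    (Scheme.Modules.restrictFunctor j₁.isoOpensRange.hom).mapIso eV ≪≫
    ((Scheme.Modules.restrictFunctorComp j₁.isoOpensRange.hom j₁.isoOpensRange.inv).app L₀).symm ≪≫
    (Scheme.Modules.restrictFunctorCongr j₁.isoOpensRange.hom_inv_id).app L₀ ≪≫
    Scheme.Modules.restrictFunctorId.app L₀

end Groth.Agent.PicProper20

end
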