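import Groth.Agent.Lib.NormalBC6.Union
import Groth.Prelude.Def_Pi1
import Groth.Prelude.Def_EGA4b
import Mathlib.AlgebraicGeometry.Pullbacks

/-!
# Geometric normality passes to the algebraic closure
-/

set_option autoImplicit false
set_option linter.style.haveILetI false
set_option backward.isDefEq.respectTransparency false
set_option backward.isDefEq.respectTransparency.types false

universe u

open CategoryTheory CategoryTheory.Limits AlgebraicGeometry
open scoped TensorProduct

noncomputable section

namespace Groth.Agent.PicProper20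

variable {k : Type u} [Field k] {X : Scheme.{u}} (f : X ⟶ Spec (CommRingCat.of k))

theorem exists_chart (E : Type u) [Field E] [Algebra k E] (W : X.Opens) (hW : IsAffineOpen W) :
    letI : Algebra k Γ(X, W) := (Spec.preimage (hW.fromSpec ≫ f)).hom.toAlgebra
    ∃ c : Spec (CommRingCat.of (Γ(X, W) ⊗[k] E)) ⟶ pullback f (Spec.map (CommRingCat.ofHom (algebraMap k E))),
      IsOpenImmersion c ∧ pullback.fst f (Spec.map (CommRingCat.ofHom (algebraMap k E))) ⁻¹' (W : Set X) ⊆ Set.range c := by
  letI : Algebra k Γ(X, W) := (Spec.preimage (hW.fromSpec ≫ f)).hom.toAlgebra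
  let A := Γ(X, W)
  let g := Spec.map (CommRingCat.ofHom (algebraMap k E))
  have hA : Spec.map (CommRingCat.ofHom (algebraMap k A)) = hW.fromSpec ≫ f := Spec.map_preimage _
  let m := pullback.map (Spec.map (CommRingCat.ofHom (algebraMap k A))) g f g hW.fromSpec (𝟙 _) (𝟙 _)
    (by rw [Category.comp_id, hA]) (by rw [Category.comp_id, Category.id_comp])
  haveI : IsOpenImmersion m := MorphismProperty.pullbackMap (P := @IsOpenImmersion) (inferInstanceAs (IsOpenImmersion hW.fromSpec)) (inferInstanceAs (IsOpenImmersion (𝟙 _))) (by rw [hA]) (by rw [Category.id_comp])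
  refine ⟨(pullbackSpecIso k A E).inv ≫ m, inferInstance, fun y hy => ?_⟩
  rw [Scheme.Hom.comp_base, TopCat.coe_comp, Set.range_comp,
    (pullbackSpecIso k A E).inv.surjective.range_eq, Set.image_univ, Scheme.Pullback.range_map]
  exact ⟨hW.range_fromSpec.ge hy, ⟨pullback.snd f g y, rfl⟩⟩

theorem isNormalRing_chart (E : Type u) [Field E] [Algebra k E] (W : X.Opens) (hW : IsAffineOpen W)
    (hE : Pi1.IsNormalScheme (pullback f (Spec.map (CommRingCat.ofHom (algebraMap k E))))) :
    letI : Algebra k Γ(X, W) := (Spec.preimage (hW.fromSpec ≫ f)).hom.toAlgebra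
    EGA4.IsNormalRing (Γ(X, W) ⊗[k] E) := by
  letI : Algebra k Γ(X, W) := (Spec.preimage (hW.fromSpec ≫ f)).hom.toAlgebra
  obtain ⟨c, hc, -⟩ := exists_chart f E W hW
  haveI := hc
  intro P _
  let z : Spec (CommRingCat.of (Γ(X, W) ⊗[k] E)) := (⟨P, inferInstance⟩ : PrimeSpectrum _)
  let e : (pullback f (Spec.map (CommRingCat.ofHom (algebraMap k E)))).presheaf.stalk (c z) ≃+* Localization.AtPrime P :=
    (asIso (c.stalkMap z) ≪≫ Spec.stalkIso (CommRingCat.of (Γ(X, W) ⊗[k] E)) z).commRingCatIsoToRingEquiv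
  haveI := (hE (c z)).1
  haveI := (hE (c z)).2
  haveI : IsDomain (Localization.AtPrime P) := e.symm.toMulEquiv.isDomain
  exact ⟨inferInstance, IsIntegrallyClosed.of_equiv e⟩

/-- Geometric normality over finite extensions gives normality over algebraic extensions. -/
theorem isNormalScheme_baseChange (K : Type u) [Field K] [Algebra k K] [Algebra.IsAlgebraic k K]
    (hnorm : ∀ (k' : Type u) [Field k'] [Algebra k k'], Module.Finite k k' →
      Pi1.IsNormalScheme (pullback f (Spec.map (CommRingCat.ofHom (algebraMap k k'))))) :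
    Pi1.IsNormalScheme (pullback f (Spec.map (CommRingCat.ofHom (algebraMap k K)))) := by
  classical
  intro y
  obtain ⟨W, hW, hxW, -⟩ := exists_isAffineOpen_mem_and_subset (X := X)
    (x := pullback.fst f (Spec.map (CommRingCat.ofHom (algebraMap k K))) y) (U := ⊤) trivial
  letI : Algebra k Γ(X, W) := (Spec.preimage (hW.fromSpec ≫ f)).hom.toAlgebra
  let A := Γ(X, W)
  obtain ⟨c, hc, hsub⟩ := exists_chart f K W hW
  haveI := hc
  obtain ⟨z, hz⟩ := hsub hxW
  have hC : EGA4.IsNormalRing (A ⊗[k] K) := by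
    refine NormalBC6.isNormalRing_of_directed fun s => ?_
    choose S hS using fun x : A ⊗[k] K => TensorProduct.exists_finset x
    let T : Finset K := (s.biUnion S).image Prod.snd
    let E := IntermediateField.adjoin k (T : Set K)
    haveI : FiniteDimensional k E := IntermediateField.finiteDimensional_adjoin fun x _ => Algebra.IsIntegral.isIntegral x
    let i : A ⊗[k] E →ₐ[k] A ⊗[k] K := Algebra.TensorProduct.map (AlgHom.id k A) E.val
    refine ⟨A ⊗[k] E, inferInstance, i.toRingHom, isNormalRing_chart f E W hW (hnorm E inferInstance), ?_, ?_⟩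
    · exact Module.Flat.lTensor_preserves_injective_linearMap E.val.toLinearMap Subtype.val_injective
    · intro x hx
      rw [hS x]
      refine SetLike.mem_coe.1 (show _ ∈ i.toRingHom.range from sum_mem fun p hp => ⟨p.1 ⊗ₜ ⟨p.2, IntermediateField.subset_adjoin k _ ?_⟩, rfl⟩)
      exact Finset.mem_image.2 ⟨p, Finset.mem_biUnion.2 ⟨x, hx, hp⟩, rfl⟩
  let e : Localization.AtPrime (PrimeSpectrum.asIdeal (R := A ⊗[k] K) z) ≃+*
      (pullback f (Spec.map (CommRingCat.ofHom (algebraMap k K)))).presheaf.stalk (c z) :=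
    (asIso (c.stalkMap z) ≪≫ Spec.stalkIso (CommRingCat.of (A ⊗[k] K)) z).commRingCatIsoToRingEquiv.symm
  haveI := (hC (PrimeSpectrum.asIdeal (R := A ⊗[k] K) z)).1
  haveI := (hC (PrimeSpectrum.asIdeal (R := A ⊗[k] K) z)).2
  haveI : IsDomain ((pullback f (Spec.map (CommRingCat.ofHom (algebraMap k K)))).presheaf.stalk (c z)) :=
    e.symm.toMulEquiv.isDomain
  have h : IsDomain ((pullback f (Spec.map (CommRingCat.ofHom (algebraMap k K)))).presheaf.stalk (c z)) ∧
      IsIntegrallyClosed ((pullback f (Spec.map (CommRingCat.ofHom (algebraMap k K)))).presheaf.stalk (c z)) :=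
    ⟨inferInstance, IsIntegrallyClosed.of_equiv e⟩
  rwa [hz] at h

end Groth.Agent.PicProper20

end
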