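import Groth.Agent.Lib.PicProper20.Valuative
import Groth.Agent.Lib.PicProper20.GeomNormal
import Groth.Agent.Lib.PicSm20.CurveRel
import Groth.Agent.Lib.PicLft20.Basic
import Groth.Agent.Lib.PicGrp20.Etale
import Groth.Agent.Lib.PicGrp20.Group
import Groth.Agent.Lib.GrpComp19.Basic
import Groth.Agent.Lib.SectionCompOpen4
import Groth.Agent.Lib.FpqcDesc.Basic

/-!
# Quasi-compact closed subschemes of the Picard scheme of a geometrically normal proper scheme are proper
-/

set_option autoImplicit false
set_option linter.style.haveILetI false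
set_option backward.isDefEq.respectTransparency false

universe u

open CategoryTheory CategoryTheory.Limits AlgebraicGeometry

noncomputable section

namespace Groth.Agent.PicProper20

variable {k : Type u} [Field k] {X : Scheme.{u}} (f : X ⟶ Spec (CommRingCat.of k)) [IsProper f]
  (hnorm : ∀ (k' : Type u) [Field k'] [Algebra k k'], Module.Finite k k' →
    Pi1.IsNormalScheme (pullback f (Spec.map (CommRingCat.ofHom (algebraMap k k')))))
  {P : Over (Spec (CommRingCat.of k))} {φ : ∀ T : Over (Spec (CommRingCat.of k)), PicF.Cl (PicF.XT f T) → (T ⟶ P)}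
  (hP : AbDual.IsRelPicK Scheme.fppfPrecoverage f P φ)

include hnorm hP in
theorem isProper_of_closed [LocallyOfFiniteType P.hom] [IsSeparated P.hom] {Z : Scheme.{u}} (i : Z ⟶ P.left)
    [IsClosedImmersion i] [QuasiCompact (i ≫ P.hom)] : IsProper (i ≫ P.hom) := by
  let K := AlgebraicClosure k
  let p := Spec.map (CommRingCat.ofHom (algebraMap k K))
  let P' : Over (Spec (CommRingCat.of K)) := Over.mk (pullback.snd P.hom p)
  haveI : IsSeparated P'.hom := inferInstanceAs (IsSeparated (pullback.snd P.hom p))
  let i' : pullback (i ≫ P.hom) p ⟶ P'.left :=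
    pullback.map (i ≫ P.hom) p P.hom p i (𝟙 _) (𝟙 _) (by simp) (by simp)
  haveI : IsClosedImmersion i' :=
    MorphismProperty.pullbackMap (P := @IsClosedImmersion) (inferInstanceAs (IsClosedImmersion i)) (inferInstanceAs (IsClosedImmersion (𝟙 _))) (by simp) (by simp)
  have hi' : i' ≫ P'.hom = pullback.snd (i ≫ P.hom) p := (pullback.lift_snd _ _ _).trans (Category.comp_id _)
  haveI : LocallyOfFiniteType (i' ≫ P'.hom) := by rw [hi']; infer_instance
  haveI : QuasiCompact (i' ≫ P'.hom) := by rw [hi']; infer_instance
  have huc := universallyClosed_of_closed (pullback.snd f p) (isNormalScheme_baseChange f K hnorm)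
    (PicSm20.isRelPicK_baseChange f p P φ hP) i'
  rw [hi'] at huc
  haveI := huc
  haveI : IsProper (pullback.snd (i ≫ P.hom) p) := {}
  haveI := FpqcDesc.descendsAlong_isProper.{u}
  have hp : (@Surjective ⊓ @Flat ⊓ @QuasiCompact : MorphismProperty Scheme.{u}) p :=
    ⟨⟨⟨fun x => ⟨IsLocalRing.closedPoint K, Subsingleton.elim (α := Spec (CommRingCat.of k)) _ _⟩⟩,
      inferInstance⟩, inferInstance⟩
  exact MorphismProperty.of_pullback_snd_of_descendsAlong
    (P := @IsProper) (Q := (@Surjective ⊓ @Flat ⊓ @QuasiCompact : MorphismProperty Scheme.{u}))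
    (f := i ≫ P.hom) (g := p) hp inferInstance

include hnorm hP in
/-- The identity component is proper. -/
theorem exists_proper_component [LocallyOfFiniteType P.hom] :
    letI := PicGrp20.grpObj hP
    ∃ U : P.left.Opens, (U : Set P.left) = connectedComponent (GrpComp19.e₀ P) ∧ IsClosedImmersion U.ι ∧
      IsProper (U.ι ≫ P.hom) ∧ GeometricallyIrreducible (U.ι ≫ P.hom) := by
  letI := PicGrp20.grpObj hP
  haveI : IsSeparated P.hom := AbRigid.isSeparated_of_grpObj P
  haveI : IsLocallyNoetherian P.left := LocallyOfFiniteType.isLocallyNoetherian P.hom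
  haveI := SectionCompOpen4.locallyConnectedSpace P.left
  let U : P.left.Opens := ⟨connectedComponent (GrpComp19.e₀ P), isOpen_connectedComponent⟩
  have hU : Set.range U.ι = connectedComponent (GrpComp19.e₀ P) := U.range_ι
  haveI : IsClosedImmersion U.ι := .of_isPreimmersion _ (hU ▸ isClosed_connectedComponent)
  haveI := GrpComp19.compactSpace_of_range P U.ι hU
  haveI : QuasiCompact (U.ι ≫ P.hom) := inferInstance
  exact ⟨U, rfl, inferInstance, isProper_of_closed f hnorm hP U.ι,
    GrpComp19.geometricallyIrreducible_of_range P U.ι hU⟩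

end Groth.Agent.PicProper20

end
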