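import Groth.Agent.Lib.PicProper20.Ext
import Groth.Agent.Lib.PicSep22.Valuative
import Groth.Agent.Lib.HilbBC25.Basic

/-!
# Closed subschemes of finite type of the Picard scheme of a normal proper variety
-/

set_option autoImplicit false
set_option linter.style.haveILetI false
set_option backward.isDefEq.respectTransparency false
set_option maxHeartbeats 2000000

universe u

open CategoryTheory CategoryTheory.Limits AlgebraicGeometry IsLocalRing

noncomputable section

namespace Groth.Agent.PicProper20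

variable {K₀ : Type u} [Field K₀] [IsAlgClosed K₀] {X : Scheme.{u}} (f : X ⟶ Spec (CommRingCat.of K₀))
  [IsProper f] (hX : Pi1.IsNormalScheme X)
variable {P : Over (Spec (CommRingCat.of K₀))}
  {φ : ∀ T : Over (Spec (CommRingCat.of K₀)), PicF.Cl (PicF.XT f T) → (T ⟶ P)}
  (hP : AbDual.IsRelPicK Scheme.fppfPrecoverage f P φ)

include hX hP in
/-- A point coming from a class over the generic point of a discrete valuation ring extends. -/
theorem exists_lift_class (R : Type u) [CommRing R] [IsDomain R] [IsDiscreteValuationRing R]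
    (L : Type u) [Field L] [Algebra R L] [IsFractionRing R L] (b : Spec (CommRingCat.of R) ⟶ Spec (CommRingCat.of K₀))
    {c : PicF.Cl (PicF.XT f (AbDual.ovr (Over.mk b) (Spec.map (CommRingCat.ofHom (algebraMap R L)))))}
    (hc : PicF.IsInvertibleCl c) :
    ∃ gR : Over.mk b ⟶ P,
      AbDual.ovrHom (Over.mk b) (Spec.map (CommRingCat.ofHom (algebraMap R L))) ≫ gR = φ _ c := by
  obtain ⟨L₀, rfl, hL⟩ := hc
  let T : Over (Spec (CommRingCat.of K₀)) := Over.mk b
  let u := Spec.map (CommRingCat.ofHom (algebraMap R L))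
  obtain ⟨π, hπ⟩ := IsDiscreteValuationRing.exists_irreducible R
  haveI : IsLocalization.Away π (FractionRing R) := RedDVR15.isLocalization_away_uniformizer R hπ
  haveI : IsLocalization.Away π L := IsLocalization.isLocalization_of_algEquiv _
    (FractionRing.algEquiv R L)
  haveI : IsOpenImmersion u := IsOpenImmersion.of_isLocalization π
  let g := PicF.XTmap f (AbDual.ovrHom T u)
  haveI : IsOpenImmersion g := MorphismProperty.pullbackMap (P := @IsOpenImmersion)
    (inferInstanceAs (IsOpenImmersion (𝟙 X))) (inferInstanceAs (IsOpenImmersion u)) (by simp) (by simp [T, u])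
  obtain ⟨L', hL', ⟨e⟩⟩ := exists_extension f hX R b g (fun y hy => by
    by_contra hne
    refine hy ?_
    have hpb := HilbBC25.isPullback_XTmap f (AbDual.ovrHom T u)
    obtain ⟨w, hw⟩ : pullback.snd f b y ∈ Set.range u := by
      refine ⟨(closedPoint L : PrimeSpectrum L), ?_⟩
      rcases IsDiscreteValuationRing.iff_pid_with_one_nonzero_prime R |>.1 ‹_› with ⟨-, Q, ⟨-, -⟩, hQu⟩
      let z : PrimeSpectrum R := pullback.snd f b y
      have hz : z.asIdeal = ⊥ := by
        by_contra h0
        exact hne (PrimeSpectrum.ext ((hQu z.asIdeal ⟨h0, z.2⟩).trans (hQu (maximalIdeal R)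
          ⟨IsDiscreteValuationRing.not_a_field R, inferInstance⟩).symm))
      refine PrimeSpectrum.ext ?_
      show (maximalIdeal L).comap (algebraMap R L) = z.asIdeal
      rw [hz, maximalIdeal_eq_bot]
      exact (RingHom.injective_iff_ker_eq_bot _).1 (IsFractionRing.injective R L)
    obtain ⟨t, ht, -⟩ := Scheme.exists_preimage_of_isPullback hpb y w hw.symm
    exact ⟨t, ht⟩) L₀ hL
  refine ⟨φ T (PicF.cl L'), ?_⟩
  refine (hP.natural T _ (AbDual.ovrHom T u) (PicF.cl L') ⟨L', rfl, hL'⟩).symm.trans ?_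
  refine congrArg (φ _) ?_
  show PicF.pullCl g (PicF.cl L') = PicF.cl L₀
  exact Quot.sound ⟨((Scheme.Modules.restrictFunctorIsoPullback _).app L').symm ≪≫ e⟩

variable [IsSeparated P.hom]

include hX hP in
/-- Closed subschemes of finite type of the Picard scheme are universally closed over a locally Noetherian base. -/
theorem universallyClosed_of_closed {Z : Scheme.{u}} (i : Z ⟶ P.left) [IsClosedImmersion i]
    [LocallyOfFiniteType (i ≫ P.hom)] [QuasiCompact (i ≫ P.hom)] :
    UniversallyClosed (i ≫ P.hom) := by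
  refine LimH13.universallyClosed_of_dvr_generic (i ≫ P.hom) fun η _ A hA y hy => ?_
  haveI := hA
  let K := Z.residueField η
  let u := Spec.map (CommRingCat.ofHom A.subtype)
  let x := Z.fromSpecResidueField η ≫ i
  let gK : AbDual.ovr (Over.mk y) u ⟶ P := Over.homMk x (by simp [x, u, hy])
  obtain ⟨R₀, hR₀, hR₀'⟩ := hP.locallySurjective _ gK
  obtain ⟨κ, U, w, hw, hwR⟩ := RigDesc22.exists_family hR₀
  obtain ⟨hsurj, hflat⟩ := PicDesc21.mem_fppf_iff.1 hw
  obtain ⟨k, x₀, -⟩ := hsurj (closedPoint K)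
  haveI := (hflat k).2
  haveI : LocallyOfFiniteType (w k) := inferInstance
  haveI : JacobsonSpace (Spec (CommRingCat.of K)) := inferInstance
  haveI : JacobsonSpace (AbDual.ovr (Over.mk y) u).left :=
    inferInstanceAs (JacobsonSpace (Spec (CommRingCat.of K)))
  haveI : JacobsonSpace (U k) := LocallyOfFiniteType.jacobsonSpace (w k)
  obtain ⟨x₁, -, hx₁⟩ := nonempty_inter_closedPoints (X := U k) (Z := Set.univ) ⟨x₀, trivial⟩
    isClosed_univ.isLocallyClosed
  haveI : LocallyOfFiniteType ((U k).fromSpecResidueField x₁) := isClosed_singleton_iff_locallyOfFiniteType.1 hx₁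
  let L := (U k).residueField x₁
  obtain ⟨e, he⟩ := Spec.map_surjective ((U k).fromSpecResidueField x₁ ≫ w k)
  have hft : e.hom.EssFiniteType := by
    have : LocallyOfFiniteType (Spec.map e) := by rw [he]; infer_instance
    exact ((HasRingHomProperty.Spec_iff (P := @LocallyOfFiniteType)).1 this).essFiniteType
  obtain ⟨c, hc, hcφ⟩ := hR₀' (w k) (hwR k)
  obtain ⟨V, hV, hVA⟩ := PicSep22.exists_dvr_comap e.hom hft A
  haveI := hV
  subst hVA
  let ρ : V.comap e.hom →+* V :=
    (e.hom.comp (V.comap e.hom).subtype).codRestrict V.toSubring fun z => z.2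
  let b' : Spec (CommRingCat.of V) ⟶ Spec (CommRingCat.of K₀) := Spec.map (CommRingCat.ofHom ρ) ≫ y
  let uL := Spec.map (CommRingCat.ofHom (algebraMap V L))
  have hsq : uL ≫ Spec.map (CommRingCat.ofHom ρ) = (U k).fromSpecResidueField x₁ ≫ w k ≫ u := by
    rw [← Category.assoc, ← he]
    show Spec.map _ ≫ Spec.map _ = Spec.map _ ≫ Spec.map _
    rw [← Spec.map_comp, ← Spec.map_comp]
    rfl
  let a : AbDual.ovr (Over.mk b') uL ⟶ AbDual.ovr (AbDual.ovr (Over.mk y) u) (w k) :=
    Over.homMk ((U k).fromSpecResidueField x₁) (by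
      simp only [AbDual.ovr, Over.mk_hom, b']
      rw [reassoc_of% hsq])
  obtain ⟨gR, hgR⟩ := exists_lift_class f hX hP V L b' (PicLoc.isInvertibleCl_pullCl (PicF.XTmap f a) hc)
  rw [hP.natural _ _ _ _ hc, hcφ] at hgR
  have hgR' := congrArg CommaMorphism.left hgR
  have hgen : uL ≫ gR.left = Spec.map e ≫ x := by
    rw [he]
    simpa [a, gK] using hgR'
  obtain ⟨l, ⟨hl₁, hl₂⟩, -⟩ := ValCritRes.existsUnique_descend e.hom V ρ (fun _ => rfl) gR.left x hgen
  have hly : l ≫ P.hom = y := by
    obtain ⟨l', -, huniq⟩ := ValCritRes.existsUnique_descend e.hom V ρ (fun _ => rfl) (gR.left ≫ P.hom) (x ≫ P.hom)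
      ((Category.assoc _ _ _).symm.trans ((congrArg (· ≫ P.hom) hgen).trans (Category.assoc _ _ _)))
    refine (huniq _ ⟨by rw [reassoc_of% hl₁], by rw [reassoc_of% hl₂]⟩).trans (huniq _ ⟨?_, ?_⟩).symm
    · rw [Over.w gR]; rfl
    · simp [x, ← hy]
  obtain ⟨lZ, hlZ⟩ := RedSepLib.exists_lift_of_range_subset l i (by
    rintro _ ⟨p, rfl⟩
    let g₀ : Spec (CommRingCat.of (V.comap e.hom)) := u (closedPoint K)
    have hcl : IsClosed (Set.range i) := i.isClosedEmbedding.isClosed_range
    have h1 : g₀ ⤳ p := by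
      refine (PrimeSpectrum.le_iff_specializes _ _).1 ?_
      intro z hz
      have : (V.comap e.hom).subtype z ∈ (closedPoint K).asIdeal := hz
      change (z : K) ∈ maximalIdeal K at this
      rw [maximalIdeal_eq_bot, Ideal.mem_bot] at this
      have : z = 0 := Subtype.ext this
      subst this; exact zero_mem _
    refine (h1.map l.continuous).mem_closed hcl ?_
    rw [← Scheme.Hom.comp_apply, hl₂]
    exact ⟨_, (Scheme.Hom.comp_apply _ _ _).symm⟩)
  refine ⟨lZ, ?_, by rw [reassoc_of% hlZ, hly]⟩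
  rw [← cancel_mono i, Category.assoc, hlZ, hl₂]

end Groth.Agent.PicProper20

end
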